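import Groth.Agent.CechShLib.Rpush
import Groth.Agent.RpushLib.AdjIso
import Groth.Agent.RpushLib.BCMap
import Groth.Agent.RpushLib.HBase

/-!
# Base change for the relative Čech complex
-/

set_option autoImplicit false
set_option linter.style.haveILetI false
universe u
open CategoryTheory CategoryTheory.Limits AlgebraicGeometry TopologicalSpace Opposite TensorProduct

attribute [local instance] HasDerivedCategory.standard

noncomputable section

namespace CechShLib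

variable {X X' S S' : Scheme.{u}}

theorem img_le (g' : X' ⟶ X) {W : X.Opens} {W' : X'.Opens} (h : W' ≤ g' ⁻¹ᵁ W) (V : X.Opens) :
    W'.ι ''ᵁ (W'.ι ⁻¹ᵁ (g' ⁻¹ᵁ V)) ≤ g' ⁻¹ᵁ (W.ι ''ᵁ (W.ι ⁻¹ᵁ V)) := by
  rw [img_eq, img_eq]
  exact le_inf (inf_le_left.trans h) inf_le_right

theorem smul_aux (g' : X' ⟶ X) {W : X.Opens} {W' : X'.Opens} (h : W' ≤ g' ⁻¹ᵁ W) (V : X.Opens)
    (r : Γ(X, V)) :
    X'.presheaf.map (homOfLE (img_le g' h V)).op (g'.app _ ((W.ι.appIso (W.ι ⁻¹ᵁ V)).inv (W.ι.app V r))) =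
      (W'.ι.appIso (W'.ι ⁻¹ᵁ (g' ⁻¹ᵁ V))).inv (W'.ι.app (g' ⁻¹ᵁ V) (g'.app V r)) := by
  have h1 := ConcreteCategory.congr_hom (W.ι.app_appIso_inv V) r
  have h2 := ConcreteCategory.congr_hom (W'.ι.app_appIso_inv (g' ⁻¹ᵁ V)) (g'.app V r)
  simp only [CategoryTheory.comp_apply] at h1 h2
  erw [h1, h2]
  have h3 := ConcreteCategory.congr_hom (g'.naturality
    (homOfLE (show W.ι ''ᵁ (W.ι ⁻¹ᵁ V) ≤ V from Set.image_preimage_subset W.ι.base V.1)).op) r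
  simp only [CategoryTheory.comp_apply] at h3
  erw [h3]
  have h4 := ConcreteCategory.congr_hom (X'.presheaf.map_comp
    ((Opens.map g'.base).map
      (homOfLE (show W.ι ''ᵁ (W.ι ⁻¹ᵁ V) ≤ V from Set.image_preimage_subset W.ι.base V.1))).op
    (homOfLE (img_le g' h V)).op) (g'.app V r)
  simp only [CategoryTheory.comp_apply] at h4
  exact h4.symm

variable (g' : X' ⟶ X) {F : X.Modules} {G : X'.Modules} (θ : F ⟶ (Scheme.Modules.pushforward g').obj G)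

theorem theta_rs {A B : X.Opens} (hAB : B ≤ A) (x : Γ(F, A)) :
    θ.app B (rs F hAB x) = rs G (Scheme.Hom.preimage_mono g' hAB) (θ.app A x) :=
  QCohLib.app_map θ (homOfLE hAB) x

/-- underlying map of presheaves of `beta` -/
def betaPre {W : X.Opens} {W' : X'.Opens} (h : W' ≤ g' ⁻¹ᵁ W) :
    ((CechOX.pushRestr W).obj F).presheaf ⟶
      ((Scheme.Modules.pushforward g').obj ((CechOX.pushRestr W').obj G)).presheaf where
  app V := AddCommGrpCat.ofHom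
    (((rs G (img_le g' h V.unop)).comp (θ.app (W.ι ''ᵁ (W.ι ⁻¹ᵁ V.unop))).hom :
      Γ(F, W.ι ''ᵁ (W.ι ⁻¹ᵁ V.unop)) →+ Γ(G, W'.ι ''ᵁ (W'.ι ⁻¹ᵁ (g' ⁻¹ᵁ V.unop)))))
  naturality {V V'} i := by
    refine AddCommGrpCat.ext fun m => ?_
    change Γ(F, W.ι ''ᵁ (W.ι ⁻¹ᵁ V.unop)) at m
    have hle : W.ι ''ᵁ (W.ι ⁻¹ᵁ V'.unop) ≤ W.ι ''ᵁ (W.ι ⁻¹ᵁ V.unop) :=
      Scheme.Hom.image_mono _ (Scheme.Hom.preimage_mono _ (leOfHom i.unop))
    have hle' : W'.ι ''ᵁ (W'.ι ⁻¹ᵁ (g' ⁻¹ᵁ V'.unop)) ≤ W'.ι ''ᵁ (W'.ι ⁻¹ᵁ (g' ⁻¹ᵁ V.unop)) :=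
      Scheme.Hom.image_mono _ (Scheme.Hom.preimage_mono _ (Scheme.Hom.preimage_mono _ (leOfHom i.unop)))
    change rs G (img_le g' h V'.unop) (θ.app _ (rs F hle m)) =
      rs G hle' (rs G (img_le g' h V.unop) (θ.app _ m))
    rw [theta_rs]
    exact (rs_rs G _ _ _).trans (rs_rs G _ _ _).symm

/-- `(j_W)_*(F|_W) → g'_* (j_{W'})_*(G|_{W'})` -/
def beta {W : X.Opens} {W' : X'.Opens} (h : W' ≤ g' ⁻¹ᵁ W) :
    (CechOX.pushRestr W).obj F ⟶ (Scheme.Modules.pushforward g').obj ((CechOX.pushRestr W').obj G) :=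
  ⟨PresheafOfModules.homMk (betaPre g' θ h)
    (fun V r m => by
      obtain ⟨V⟩ := V
      change ↑(Γ(X, V)) at r
      change rs G (img_le g' h V) (θ.app _
          (((W.ι.appIso (W.ι ⁻¹ᵁ V)).inv (W.ι.app V r)) • (show ↑Γ(F, W.ι ''ᵁ (W.ι ⁻¹ᵁ V)) from m))) =
        ((W'.ι.appIso (W'.ι ⁻¹ᵁ (g' ⁻¹ᵁ V))).inv (W'.ι.app (g' ⁻¹ᵁ V) (g'.app V r))) •
          rs G (img_le g' h V) (θ.app _ (show ↑Γ(F, W.ι ''ᵁ (W.ι ⁻¹ᵁ V)) from m))
      rw [← smul_aux g' h V r]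
      exact (congrArg _ (θ.app_smul _ _)).trans (Scheme.Modules.map_smul G _ _ _))⟩

theorem beta_natural {W₁ W₂ : X.Opens} {W₁' W₂' : X'.Opens} (h₁ : W₁' ≤ g' ⁻¹ᵁ W₁) (h₂ : W₂' ≤ g' ⁻¹ᵁ W₂)
    (hle : W₂ ≤ W₁) (hle' : W₂' ≤ W₁') :
    CechOX.pushRestrMapApp hle F ≫ beta g' θ h₂ =
      beta g' θ h₁ ≫ (Scheme.Modules.pushforward g').map (CechOX.pushRestrMapApp hle' G) := by
  refine Scheme.Modules.hom_ext _ _ fun V => ConcreteCategory.hom_ext _ _ fun m => ?_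
  change Γ(F, W₁.ι ''ᵁ (W₁.ι ⁻¹ᵁ V)) at m
  change rs G _ (θ.app _ (rs F (CechOX.image_preimage_mono hle V) m)) =
    rs G (CechOX.image_preimage_mono hle' (g' ⁻¹ᵁ V)) (rs G _ (θ.app _ m))
  rw [theta_rs]
  exact (rs_rs G _ _ _).trans (rs_rs G _ _ _).symm

section Complex

variable {ι : Type u} (𝒰 : ι → X.Opens)

/-- preimage cover -/
abbrev preU : ι → X'.Opens := fun i => g' ⁻¹ᵁ 𝒰 i

theorem pi_preU {n : ℕ} (J : Fin n → ι) :
    (∏ᶜ (preU g' 𝒰 ∘ J) : X'.Opens) = g' ⁻¹ᵁ (∏ᶜ (𝒰 ∘ J) : X.Opens) := by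
  rw [piObj, piObj]
  refine Opens.ext (Set.ext fun x => ?_)
  simp only [cap, CechLib.cap, SetLike.mem_coe]
  constructor
  · intro hx
    change g' x ∈ (⨅ a, 𝒰 (J a) : X.Opens)
    rw [← SetLike.mem_coe, Opens.coe_iInf] at hx ⊢
    exact Set.mem_iInter.mpr fun i => Set.mem_iInter.mp hx i
  · intro hx
    change g' x ∈ (⨅ a, 𝒰 (J a) : X.Opens) at hx
    rw [← SetLike.mem_coe, Opens.coe_iInf] at hx ⊢
    exact Set.mem_iInter.mpr fun i => Set.mem_iInter.mp hx i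

/-- transposed components -/
def Bp (p : ℕ) : (K 𝒰 F).X p ⟶ (Scheme.Modules.pushforward g').obj ((K (preU g' 𝒰) G).X p) :=
  (Scheme.Modules.pullbackPushforwardAdjunction g').homEquiv _ _
    (Pi.lift fun J : Fin (p + 1) → ι =>
      ((Scheme.Modules.pullbackPushforwardAdjunction g').homEquiv _ _).symm
        (pr 𝒰 F p J ≫ beta g' θ (pi_preU g' 𝒰 J).le))

theorem Bp_pr (p : ℕ) (J : Fin (p + 1) → ι) :
    Bp g' θ 𝒰 p ≫ (Scheme.Modules.pushforward g').map (pr (preU g' 𝒰) G p J) =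
      pr 𝒰 F p J ≫ beta g' θ (pi_preU g' 𝒰 J).le := by
  rw [Bp, ← Adjunction.homEquiv_naturality_right, Equiv.apply_eq_iff_eq_symm_apply]
  exact Pi.lift_π _ J

theorem push_hom_ext (p : ℕ) {Z : X.Modules}
    {a b : Z ⟶ (Scheme.Modules.pushforward g').obj ((K (preU g' 𝒰) G).X p)}
    (h : ∀ J, a ≫ (Scheme.Modules.pushforward g').map (pr (preU g' 𝒰) G p J) =
      b ≫ (Scheme.Modules.pushforward g').map (pr (preU g' 𝒰) G p J)) : a = b := by
  apply ((Scheme.Modules.pullbackPushforwardAdjunction g').homEquiv _ _).symm.injective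
  refine Pi.hom_ext _ _ fun J => ?_
  have := h J
  apply_fun ((Scheme.Modules.pullbackPushforwardAdjunction g').homEquiv _ _).symm at this
  rwa [Adjunction.homEquiv_naturality_right_symm, Adjunction.homEquiv_naturality_right_symm] at this

theorem Bp_coface (p : ℕ) (k : Fin (p + 2)) :
    coface 𝒰 F p k ≫ Bp g' θ 𝒰 (p + 1) =
      Bp g' θ 𝒰 p ≫ (Scheme.Modules.pushforward g').map (coface (preU g' 𝒰) G p k) := by
  refine push_hom_ext g' 𝒰 (p + 1) fun J => ?_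
  rw [Category.assoc, Category.assoc, Bp_pr, ← Category.assoc, coface_pr, Category.assoc,
    ← Functor.map_comp, coface_pr, Functor.map_comp, ← Category.assoc, ← Category.assoc,
    Bp_pr, Category.assoc, beta_natural g' θ _ _ _ (pi_le (preU g' 𝒰) J k.succAbove), Category.assoc]

theorem Bp_d (p : ℕ) :
    (K 𝒰 F).d p (p + 1) ≫ Bp g' θ 𝒰 (p + 1) =
      Bp g' θ 𝒰 p ≫ (Scheme.Modules.pushforward g').map ((K (preU g' 𝒰) G).d p (p + 1)) := by
  rw [K_d, K_d, Preadditive.sum_comp, Functor.map_sum, Preadditive.comp_sum]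
  refine Finset.sum_congr rfl fun k _ => ?_
  rw [Functor.map_zsmul, Preadditive.zsmul_comp, Preadditive.comp_zsmul, Bp_coface]

end Complex

variable {f : X ⟶ S} {f' : X' ⟶ S'} {g : S' ⟶ S} (H : IsPullback g' f' f g)

/-- `f_* g'_* = g_* f'_*` -/
def sqIso : Scheme.Modules.pushforward g' ⋙ Scheme.Modules.pushforward f ≅
    Scheme.Modules.pushforward f' ⋙ Scheme.Modules.pushforward g :=
  Scheme.Modules.pushforwardComp g' f ≪≫ Scheme.Modules.pushforwardCongr H.w ≪≫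
    (Scheme.Modules.pushforwardComp f' g).symm

/-- base change map of one piece, in transposed form -/
def cJ (W : X.Opens) (W' : X'.Opens) (h : W' ≤ g' ⁻¹ᵁ W) :
    (Scheme.Modules.pushforward f).obj ((CechOX.pushRestr W).obj F) ⟶
      (Scheme.Modules.pushforward g).obj ((Scheme.Modules.pushforward f').obj ((CechOX.pushRestr W').obj G)) :=
  (Scheme.Modules.pushforward f).map (beta g' θ h) ≫ (sqIso g' H).hom.app _

include H in
theorem img_le_sq {W : X.Opens} {W' : X'.Opens} (h : W' ≤ g' ⁻¹ᵁ W) (U : S.Opens) :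
    W'.ι ''ᵁ (W'.ι ⁻¹ᵁ (f' ⁻¹ᵁ (g ⁻¹ᵁ U))) ≤ g' ⁻¹ᵁ (W.ι ''ᵁ (W.ι ⁻¹ᵁ (f ⁻¹ᵁ U))) := by
  have e : f' ⁻¹ᵁ (g ⁻¹ᵁ U) = g' ⁻¹ᵁ (f ⁻¹ᵁ U) := by
    rw [← Scheme.Hom.comp_preimage, ← Scheme.Hom.comp_preimage, H.w]
  rw [e]
  exact img_le g' h _

theorem cJ_app (W : X.Opens) (W' : X'.Opens) (h : W' ≤ g' ⁻¹ᵁ W) (U : S.Opens)
    (m : Γ(F, W.ι ''ᵁ (W.ι ⁻¹ᵁ (f ⁻¹ᵁ U)))) :
    (show Γ(G, W'.ι ''ᵁ (W'.ι ⁻¹ᵁ (f' ⁻¹ᵁ (g ⁻¹ᵁ U)))) from (cJ g' θ H W W' h).app U m) =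
      rs G (img_le_sq g' H h U) (θ.app _ m) := by
  have e : f' ⁻¹ᵁ (g ⁻¹ᵁ U) = g' ⁻¹ᵁ (f ⁻¹ᵁ U) := by
    rw [← Scheme.Hom.comp_preimage, ← Scheme.Hom.comp_preimage, H.w]
  simp only [cJ, sqIso, Iso.trans_hom, Iso.symm_hom, NatTrans.comp_app, Scheme.Modules.Hom.comp_app,
    Scheme.Modules.pushforwardComp_hom_app_app, Scheme.Modules.pushforwardComp_inv_app_app,
    Scheme.Modules.pushforwardCongr_hom_app_app]
  change rs G (Scheme.Hom.image_mono _ (Scheme.Hom.preimage_mono _ e.le))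
    (rs G (img_le g' h (f ⁻¹ᵁ U)) (θ.app _ m)) = _
  exact rs_rs G _ _ _

/-- the unit -/
abbrev unitMap (M : X.Modules) : M ⟶ (Scheme.Modules.pushforward g').obj ((Scheme.Modules.pullback g').obj M) :=
  (Scheme.Modules.pullbackPushforwardAdjunction g').unit.app M

/-- the base change map of one affine piece is an isomorphism -/
theorem isIso_cJ [IsAffineHom (pullback.diagonal (terminal.from X))] [IsAffineHom (pullback.diagonal (terminal.from S))] (M : X.Modules) [Coh.IsQCoh M]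
    (W : X.Opens) (hW : IsAffineOpen W) (W' : X'.Opens) (h : W' = g' ⁻¹ᵁ W) :
    IsIso (((Scheme.Modules.pullbackPushforwardAdjunction g).homEquiv _ _).symm
      (cJ g' (unitMap g' M) H W W' h.le)) := by
  haveI : Coh.IsQCoh ((Scheme.Modules.pushforward f).obj ((CechOX.pushRestr W).obj M)) :=
    isQCoh_push_pushRestr M f W hW
  haveI : IsAffine W := hW
  haveI := isAffineHom_of_affine (W.ι ≫ f)
  refine RpushLib.isIso_homEquiv_symm g _ fun U U' hU hU' hle => ?_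
  let := (g.appLE U U' hle).hom.toAlgebra
  let V : X.Opens := W.ι ''ᵁ (W.ι ⁻¹ᵁ (f ⁻¹ᵁ U))
  have hV : IsAffineOpen V := by
    refine IsAffineOpen.image_of_isOpenImmersion ?_ W.ι
    rw [← Scheme.Hom.comp_preimage]
    exact hU.preimage _
  have hVf : V ≤ f ⁻¹ᵁ U := by dsimp only [V]; rw [img_eq]; exact inf_le_right
  have hUe : g' ⁻¹ᵁ V ⊓ f' ⁻¹ᵁ U' = W'.ι ''ᵁ (W'.ι ⁻¹ᵁ (f' ⁻¹ᵁ U')) := by
    have e : f' ⁻¹ᵁ (g ⁻¹ᵁ U) = g' ⁻¹ᵁ (f ⁻¹ᵁ U) := by
      rw [← Scheme.Hom.comp_preimage, ← Scheme.Hom.comp_preimage, H.w]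
    dsimp only [V]
    rw [img_eq, img_eq, h, Scheme.Hom.preimage_inf, inf_assoc, ← e,
      inf_eq_right.mpr (Scheme.Hom.preimage_mono f' hle)]
  let ψ : Γ(S', U') →+* Γ(X', g' ⁻¹ᵁ V ⊓ f' ⁻¹ᵁ U') :=
    (f'.appLE U' (g' ⁻¹ᵁ V ⊓ f' ⁻¹ᵁ U') inf_le_right).hom
  have hc : ∀ r, g'.appLE V (g' ⁻¹ᵁ V ⊓ f' ⁻¹ᵁ U') inf_le_left ((f.appLE U V hVf).hom r) =
      ψ (algebraMap Γ(S, U) Γ(S', U') r) := fun r => by
    have := (RpushLib.isPushout_sections H hU hU' hle hV hVf).w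
    exact ConcreteCategory.congr_hom this r
  have key := RpushLib.bijective_secMap₀_of_isPushout g' hV (f.appLE U V hVf).hom
    (RpushLib.isAffineOpen_fibre H hU hU' hle hV hVf) ψ inf_le_left hc
    (RpushLib.isPushout_sections H hU hU' hle hV hVf) M
  let σ₁ := RpushLib.secMap₀ (σ := algebraMap Γ(S, U) Γ(S', U')) g' (f.appLE U V hVf).hom ψ inf_le_left hc
    ((Scheme.Modules.pullbackPushforwardAdjunction g').unit.app M)
  let N' := (Scheme.Modules.pullback g').obj M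
  let σ₂ := RpushLib.secMap₀ (σ := algebraMap Γ(S, U) Γ(S', U')) g (RingHom.id Γ(S, U)) (RingHom.id Γ(S', U'))
    hle (fun _ => rfl) (cJ g' (unitMap g' M) H W W' h.le)
  let R := rs N' hUe.ge
  have hR : Function.Bijective R := ⟨fun a b hab => by
      have := congrArg (rs N' hUe.le) hab
      rwa [rs_rs, rs_rs, rs_self, rs_self] at this,
    fun b => ⟨rs N' hUe.le b, (rs_rs N' _ _ _).trans (rs_self N' b)⟩⟩
  have h1 : ∀ m : Γ(M, V), (σ₂ m : Γ(N', W'.ι ''ᵁ (W'.ι ⁻¹ᵁ (f' ⁻¹ᵁ U')))) = R (σ₁ m) := by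
    intro m
    have hbig : W'.ι ''ᵁ (W'.ι ⁻¹ᵁ (f' ⁻¹ᵁ U')) ≤ W'.ι ''ᵁ (W'.ι ⁻¹ᵁ (f' ⁻¹ᵁ (g ⁻¹ᵁ U))) :=
      Scheme.Hom.image_mono _ (Scheme.Hom.preimage_mono _ (Scheme.Hom.preimage_mono _ hle))
    refine Eq.trans (congrArg (rs N' hbig) (cJ_app g' _ H W W' h.le U m)) ?_
    exact (rs_rs N' _ _ _).trans (rs_rs N' _ _ _).symm
  let N₂ := (RpushLib.secFun U (RingHom.id Γ(S, U))).obj
    ((Scheme.Modules.pushforward f).obj ((CechOX.pushRestr W).obj M))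
  let N₁ := (RpushLib.secFun V (f.appLE U V hVf).hom).obj M
  let L : N₂ ≃ₗ[Γ(S, U)] N₁ :=
    { toFun := fun m => (show Γ(M, V) from m)
      invFun := fun m => (show Γ(M, V) from m)
      left_inv := fun _ => rfl
      right_inv := fun _ => rfl
      map_add' := fun _ _ => rfl
      map_smul' := fun r m => by
        have e1 := ConcreteCategory.congr_hom (W.ι.app_appIso_inv (f ⁻¹ᵁ U)) (f.app U r)
        simp only [CategoryTheory.comp_apply] at e1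
        refine congrArg (fun s : Γ(X, V) => s • (show Γ(M, V) from m)) ?_
        refine e1.trans ?_
        rw [Scheme.Hom.appLE]
        rfl }
  have hsm : ∀ (b : Γ(S', U')) (x : Γ(N', g' ⁻¹ᵁ V ⊓ f' ⁻¹ᵁ U')),
      R (ψ b • x) = ((W'.ι.appIso (W'.ι ⁻¹ᵁ (f' ⁻¹ᵁ U'))).inv (W'.ι.app (f' ⁻¹ᵁ U') (f'.app U' b))) • R x := by
    intro b x
    refine (Scheme.Modules.map_smul N' _ _ _).trans ?_
    congr 1
    have e1 := ConcreteCategory.congr_hom (W'.ι.app_appIso_inv (f' ⁻¹ᵁ U')) (f'.app U' b)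
    simp only [CategoryTheory.comp_apply] at e1
    refine Eq.trans ?_ e1.symm
    change X'.presheaf.map _ (X'.presheaf.map _ (f'.app U' b)) = _
    rw [← CategoryTheory.comp_apply, ← Functor.map_comp]
    rfl
  have hx : ∀ x : Γ(S', U') ⊗[Γ(S, U)] N₂,
      (RpushLib.extSL σ₂ x : Γ(N', W'.ι ''ᵁ (W'.ι ⁻¹ᵁ (f' ⁻¹ᵁ U')))) =
        R (RpushLib.extSL σ₁ (L.toLinearMap.baseChange Γ(S', U') x)) := by
    intro x
    induction x using TensorProduct.induction_on with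
    | zero =>
      rw [map_zero, map_zero]
      exact (map_zero (RpushLib.extSL σ₂)).trans (map_zero R).symm
    | tmul b m =>
      rw [LinearMap.baseChange_tmul, RpushLib.extSL_tmul]
      refine Eq.trans ?_ (hsm b _).symm
      refine (congrArg (fun y => y) (RpushLib.extSL_tmul σ₂ b m)).trans ?_
      exact congrArg (fun y : Γ(N', W'.ι ''ᵁ (W'.ι ⁻¹ᵁ (f' ⁻¹ᵁ U'))) =>
        ((W'.ι.appIso (W'.ι ⁻¹ᵁ (f' ⁻¹ᵁ U'))).inv (W'.ι.app (f' ⁻¹ᵁ U') (f'.app U' b))) • y) (h1 m)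
    | add x y hx hy =>
      refine (map_add (RpushLib.extSL σ₂) x y).trans ((congr_arg₂ (· + ·) hx hy).trans ?_)
      refine (map_add R _ _).symm.trans (congrArg R ?_)
      exact ((congrArg (RpushLib.extSL σ₁) (map_add (L.toLinearMap.baseChange Γ(S', U')) x y)).trans
        (map_add (RpushLib.extSL σ₁) _ _)).symm
  change Function.Bijective fun x : Γ(S', U') ⊗[Γ(S, U)] N₂ =>
    (RpushLib.extSL σ₂ x : Γ(N', W'.ι ''ᵁ (W'.ι ⁻¹ᵁ (f' ⁻¹ᵁ U'))))
  rw [funext hx]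
  exact (hR.comp key).comp (L.lTensor Γ(S', U')).bijective

section Assemble

variable {ι : Type u} (𝒰 : ι → X.Opens)

/-- termwise base change map of the relative Čech complexes -/
def bc (p : ℕ) : ((Scheme.Modules.pullback g).obj ((Scheme.Modules.pushforward f).obj ((K 𝒰 F).X p))) ⟶
    (Scheme.Modules.pushforward f').obj ((K (preU g' 𝒰) G).X p) :=
  ((Scheme.Modules.pullbackPushforwardAdjunction g).homEquiv _ _).symm
    ((Scheme.Modules.pushforward f).map (Bp g' θ 𝒰 p) ≫ (sqIso g' H).hom.app _)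

theorem bc_pr (p : ℕ) (J : Fin (p + 1) → ι) :
    bc g' θ H 𝒰 p ≫ (Scheme.Modules.pushforward f').map (pr (preU g' 𝒰) G p J) =
      (Scheme.Modules.pullback g).map ((Scheme.Modules.pushforward f).map (pr 𝒰 F p J)) ≫
        ((Scheme.Modules.pullbackPushforwardAdjunction g).homEquiv _ _).symm
          (cJ g' θ H (∏ᶜ (𝒰 ∘ J)) (∏ᶜ (preU g' 𝒰 ∘ J)) (pi_preU g' 𝒰 J).le) := by
  rw [bc, cJ, ← Adjunction.homEquiv_naturality_right_symm, ← Adjunction.homEquiv_naturality_left_symm,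
    Category.assoc]
  congr 1
  erw [← (sqIso g' H).hom.naturality]
  change _ ≫ (Scheme.Modules.pushforward f).map ((Scheme.Modules.pushforward g').map _) ≫ _ = _
  rw [← Category.assoc, ← Functor.map_comp, Bp_pr, Functor.map_comp, Category.assoc]

theorem bc_d (p : ℕ) :
    bc g' θ H 𝒰 p ≫ (Scheme.Modules.pushforward f').map ((K (preU g' 𝒰) G).d p (p + 1)) =
      (Scheme.Modules.pullback g).map ((Scheme.Modules.pushforward f).map ((K 𝒰 F).d p (p + 1))) ≫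
        bc g' θ H 𝒰 (p + 1) := by
  rw [bc, bc, ← Adjunction.homEquiv_naturality_right_symm, ← Adjunction.homEquiv_naturality_left_symm,
    Category.assoc]
  congr 1
  erw [← (sqIso g' H).hom.naturality]
  change _ ≫ (Scheme.Modules.pushforward f).map ((Scheme.Modules.pushforward g').map _) ≫ _ = _
  rw [← Category.assoc, ← Functor.map_comp, ← Bp_d, Functor.map_comp, Category.assoc]

theorem isIso_bc [Finite ι] [(Scheme.Modules.pullback g).Additive]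
    (hc : ∀ (p : ℕ) (J : Fin (p + 1) → ι), IsIso (((Scheme.Modules.pullbackPushforwardAdjunction g).homEquiv _ _).symm
      (cJ g' θ H (∏ᶜ (𝒰 ∘ J)) (∏ᶜ (preU g' 𝒰 ∘ J)) (pi_preU g' 𝒰 J).le))) (p : ℕ) :
    IsIso (bc g' θ H 𝒰 p) := by
  haveI := Fintype.ofFinite ι
  haveI : HasFiniteBiproducts X.Modules := Abelian.hasFiniteBiproducts
  haveI : HasFiniteBiproducts X'.Modules := Abelian.hasFiniteBiproducts
  let A := Scheme.Modules.pushforward f ⋙ Scheme.Modules.pullback g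
  haveI : PreservesFiniteProducts A := inferInstance
  haveI : PreservesFiniteProducts (Scheme.Modules.pushforward f') := inferInstance
  haveI := hc p
  let c : ∀ J : Fin (p + 1) → ι, A.obj (fac 𝒰 F p J) ⟶
      (Scheme.Modules.pushforward f').obj (fac (preU g' 𝒰) G p J) := fun J =>
    ((Scheme.Modules.pullbackPushforwardAdjunction g).homEquiv _ _).symm
      (cJ g' θ H (∏ᶜ (𝒰 ∘ J)) (∏ᶜ (preU g' 𝒰 ∘ J)) (pi_preU g' 𝒰 J).le)
  haveI : ∀ J, IsIso (c J) := fun J => hc p J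
  let b : A.obj (∏ᶜ fac 𝒰 F p) ⟶ (Scheme.Modules.pushforward f').obj (∏ᶜ fac (preU g' 𝒰) G p) :=
    bc g' θ H 𝒰 p
  have e : b ≫ (PreservesProduct.iso (Scheme.Modules.pushforward f') (fac (preU g' 𝒰) G p)).hom =
      (PreservesProduct.iso A (fac 𝒰 F p)).hom ≫ Limits.Pi.map c := by
    refine Pi.hom_ext _ _ fun J => ?_
    rw [Category.assoc, PreservesProduct.iso_hom, piComparison_comp_π, Category.assoc, Limits.Pi.map_π,
      PreservesProduct.iso_hom, piComparison_comp_π_assoc]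
    exact bc_pr g' θ H 𝒰 p J
  haveI : IsIso (b ≫ (PreservesProduct.iso (Scheme.Modules.pushforward f') (fac (preU g' 𝒰) G p)).hom) := by
    rw [e]; infer_instance
  exact (IsIso.of_isIso_comp_right b
    (PreservesProduct.iso (Scheme.Modules.pushforward f') (fac (preU g' 𝒰) G p)).hom :)

include H in
theorem nonempty_bc_iso [IsAffineHom (pullback.diagonal (terminal.from S))] [Finite ι]
    [(Scheme.Modules.pullback g).Additive] [IsAffineHom (pullback.diagonal (terminal.from X))]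
    (M : X.Modules) [Coh.IsQCoh M] (h𝒰 : ∀ i, IsAffineOpen (𝒰 i)) :
    Nonempty (((Scheme.Modules.pullback g).mapHomologicalComplex (ComplexShape.up ℕ)).obj
        ((CechOX.relCech 𝒰 f).obj M) ≅
      (CechOX.relCech (preU g' 𝒰) f').obj ((Scheme.Modules.pullback g').obj M)) := by
  let θ := unitMap g' M
  have hb : ∀ p, IsIso (bc g' θ H 𝒰 p) := fun p => isIso_bc g' θ H 𝒰
    (fun q J => isIso_cJ g' H M _ (affine_pi 𝒰 h𝒰 J) _ (pi_preU g' 𝒰 J)) p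
  exact ⟨HomologicalComplex.Hom.isoOfComponents (fun p => @asIso _ _ _ _ (bc g' θ H 𝒰 p) (hb p))
    (by rintro i j (rfl : i + 1 = j); exact bc_d g' θ H 𝒰 i)⟩

end Assemble

end CechShLib
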