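import Groth.Agent.GrModLib6.Rel
import Groth.Agent.ProjFormLib.Inj
import Groth.Agent.CechLib.Basic
import Groth.Prelude.Def_CechOX

/-!
# The Čech complex of sheaves is a resolution
-/

set_option autoImplicit false
universe u
open CategoryTheory CategoryTheory.Limits AlgebraicGeometry TopologicalSpace Opposite

noncomputable section

namespace CechShLib

variable {X : Scheme.{u}} {ι : Type u} (𝒰 : ι → X.Opens) (F : X.Modules)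

/-- restriction -/
abbrev rs {V W : X.Opens} (h : W ≤ V) : Γ(F, V) →+ Γ(F, W) := CechLib.rs F.presheaf h

theorem rs_self {V : X.Opens} (x : Γ(F, V)) : rs F (le_refl V) x = x := CechLib.rs_self F.presheaf x

theorem rs_rs {V W Z : X.Opens} (h : W ≤ V) (h' : Z ≤ W) (x : Γ(F, V)) :
    rs F h' (rs F h x) = rs F (h'.trans h) x := CechLib.rs_rs F.presheaf h h' x

abbrev K : CochainComplex X.Modules ℕ := (CechOX.cechSh 𝒰).obj F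

/-- intersection of the members of a tuple -/
abbrev cap {n : ℕ} (J : Fin n → ι) : X.Opens := CechLib.cap (X := X.toTopCat) 𝒰 J

theorem piObj {n : ℕ} (J : Fin n → ι) : (∏ᶜ (𝒰 ∘ J) : X.Opens) = cap 𝒰 J :=
  CechLib.piObj_eq_cap (X := X.toTopCat) 𝒰 J

abbrev fac (n : ℕ) : (Fin (n + 1) → ι) → X.Modules :=
  fun J => (CechOX.pushRestr (∏ᶜ (𝒰 ∘ J))).obj F

/-- projection to a factor -/
def pr (n : ℕ) (J : Fin (n + 1) → ι) : (K 𝒰 F).X n ⟶ (CechOX.pushRestr (∏ᶜ (𝒰 ∘ J))).obj F :=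
  Pi.π (fac 𝒰 F n) J

theorem img_eq (W V : X.Opens) : W.ι ''ᵁ (W.ι ⁻¹ᵁ V) = W ⊓ V := by
  rw [Scheme.Hom.image_preimage_eq_opensRange_inf, Scheme.Opens.opensRange_ι]

theorem img_cap {n : ℕ} (J : Fin n → ι) (V : X.Opens) :
    (∏ᶜ (𝒰 ∘ J) : X.Opens).ι ''ᵁ ((∏ᶜ (𝒰 ∘ J) : X.Opens).ι ⁻¹ᵁ V) = cap 𝒰 J ⊓ V := by
  rw [img_eq, piObj]

/-- projection on sections -/
def prV (n : ℕ) (V : X.Opens) (J : Fin (n + 1) → ι) : Γ((K 𝒰 F).X n, V) →+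
    Γ(F, (∏ᶜ (𝒰 ∘ J) : X.Opens).ι ''ᵁ ((∏ᶜ (𝒰 ∘ J) : X.Opens).ι ⁻¹ᵁ V)) :=
  ((pr 𝒰 F n J).app V).hom

/-- component of a section -/
def ev (n : ℕ) (V : X.Opens) (J : Fin (n + 1) → ι) : Γ((K 𝒰 F).X n, V) →+ Γ(F, cap 𝒰 J ⊓ V) :=
  (rs F (img_cap 𝒰 J V).ge).comp (prV 𝒰 F n V J)

theorem ev_ext (n : ℕ) (V : X.Opens) {c c' : Γ((K 𝒰 F).X n, V)}
    (h : ∀ J, ev 𝒰 F n V J c = ev 𝒰 F n V J c') : c = c' := by
  refine ProjFormLib.sections_prod_ext (fac 𝒰 F n) c c' fun J => ?_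
  have h2 := congrArg (rs F (img_cap 𝒰 J V).le) (h J)
  simp only [ev, AddMonoidHom.comp_apply] at h2
  rw [rs_rs, rs_rs, rs_self, rs_self] at h2
  exact h2

theorem exists_ev (n : ℕ) (V : X.Opens) (s : ∀ J : Fin (n + 1) → ι, Γ(F, cap 𝒰 J ⊓ V)) :
    ∃ c, ∀ J, ev 𝒰 F n V J c = s J := by
  obtain ⟨c, hc⟩ := ProjFormLib.exists_section_prod (fac 𝒰 F n) (V := V)
    fun J => rs F (img_cap 𝒰 J V).le (s J)
  refine ⟨c, fun J => ?_⟩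
  have hc' : prV 𝒰 F n V J c = rs F (img_cap 𝒰 J V).le (s J) := hc J
  change rs F _ (prV 𝒰 F n V J c) = _
  rw [hc']
  exact (rs_rs F _ _ _).trans (rs_self F _)

theorem ev_map (n : ℕ) {V W : X.Opens} (h : W ≤ V) (J : Fin (n + 1) → ι) (c : Γ((K 𝒰 F).X n, V)) :
    ev 𝒰 F n W J (((K 𝒰 F).X n).presheaf.map (homOfLE h).op c) =
      rs F (inf_le_inf_left _ h) (ev 𝒰 F n V J c) := by
  have h2 : prV 𝒰 F n W J (((K 𝒰 F).X n).presheaf.map (homOfLE h).op c) =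
      rs F (Scheme.Hom.image_mono _ (Scheme.Hom.preimage_mono _ h)) (prV 𝒰 F n V J c) :=
    QCohLib.app_map (pr 𝒰 F n J) (homOfLE h) c
  change rs F _ (prV 𝒰 F n W J _) = rs F _ (rs F _ (prV 𝒰 F n V J c))
  rw [h2]
  exact (rs_rs F _ _ _).trans (rs_rs F _ _ _).symm

/-- coface -/
abbrev coface (n : ℕ) (k : Fin (n + 2)) : (K 𝒰 F).X n ⟶ (K 𝒰 F).X (n + 1) :=
  CosimplicialObject.δ ((Limits.FormalCoproduct.cosimplicialObjectFunctor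
    (Limits.FormalCoproduct.mk _ 𝒰).cech).obj (CechOX.pushRestrFam.flip.obj F)) k

theorem cap_comp_le {n m : ℕ} (J : Fin n → ι) (g : Fin m → Fin n) :
    cap 𝒰 J ≤ cap 𝒰 (J ∘ g) := CechLib.cap_comp_le (X := X.toTopCat) 𝒰 J g

theorem pi_le {n m : ℕ} (J : Fin n → ι) (g : Fin m → Fin n) :
    (∏ᶜ (𝒰 ∘ J) : X.Opens) ≤ ∏ᶜ (𝒰 ∘ (J ∘ g)) := by
  rw [piObj, piObj]; exact cap_comp_le 𝒰 J g

theorem coface_pr (n : ℕ) (k : Fin (n + 2)) (J : Fin (n + 2) → ι) :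
    coface 𝒰 F n k ≫ pr 𝒰 F (n + 1) J =
      pr 𝒰 F n (J ∘ k.succAbove) ≫ CechOX.pushRestrMapApp (pi_le 𝒰 J k.succAbove) F :=
  Pi.lift_π _ _

theorem ev_coface (n : ℕ) (V : X.Opens) (k : Fin (n + 2)) (c : Γ((K 𝒰 F).X n, V))
    (J : Fin (n + 2) → ι) :
    ev 𝒰 F (n + 1) V J ((coface 𝒰 F n k).app V c) =
      rs F (inf_le_inf_right _ (cap_comp_le 𝒰 J k.succAbove)) (ev 𝒰 F n V (J ∘ k.succAbove) c) := by
  have h2 : prV 𝒰 F (n + 1) V J ((coface 𝒰 F n k).app V c) =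
      rs F (CechOX.image_preimage_mono (pi_le 𝒰 J k.succAbove) V) (prV 𝒰 F n V (J ∘ k.succAbove) c) :=
    congrArg (fun θ => θ.app V c) (coface_pr 𝒰 F n k J)
  change rs F _ (prV 𝒰 F (n + 1) V J _) = rs F _ (rs F _ _)
  rw [h2]
  exact (rs_rs F _ _ _).trans (rs_rs F _ _ _).symm

theorem K_d (n : ℕ) : (K 𝒰 F).d n (n + 1) =
    ∑ k : Fin (n + 2), ((-1 : ℤ) ^ (k : ℕ)) • coface 𝒰 F n k := by
  simp [K, CechOX.cechSh, cechComplexFunctor, coface, AlgebraicTopology.AlternatingCofaceMapComplex.objD]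
  rfl

theorem sum_zsmul_app {M N : X.Modules} {κ : Type*} (s : Finset κ) (a : κ → ℤ)
    (f : κ → (M ⟶ N)) (V : X.Opens) (c : Γ(M, V)) :
    (∑ k ∈ s, a k • f k).app V c = ∑ k ∈ s, a k • (f k).app V c := by
  let φ : (M ⟶ N) →+ Γ(N, V) := AddMonoidHom.mk' (fun θ => θ.app V c) (fun _ _ => rfl)
  exact (map_sum φ _ s).trans (Finset.sum_congr rfl fun k _ => map_zsmul φ _ _)

theorem ev_congr {n : ℕ} (V : X.Opens) (c : Γ((K 𝒰 F).X n, V)) {f g : Fin (n + 1) → ι} (hfg : f = g)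
    {Z : X.Opens} (p : Z ≤ cap 𝒰 f ⊓ V) (q : Z ≤ cap 𝒰 g ⊓ V) :
    rs F p (ev 𝒰 F n V f c) = rs F q (ev 𝒰 F n V g c) := by
  subst hfg; rfl

theorem ev_d (n : ℕ) (V : X.Opens) (c : Γ((K 𝒰 F).X n, V)) (J : Fin (n + 2) → ι) :
    ev 𝒰 F (n + 1) V J (((K 𝒰 F).d n (n + 1)).app V c) = ∑ k : Fin (n + 2), ((-1 : ℤ) ^ (k : ℕ)) •
      rs F (inf_le_inf_right _ (cap_comp_le 𝒰 J k.succAbove)) (ev 𝒰 F n V (J ∘ k.succAbove) c) := by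
  rw [K_d, sum_zsmul_app, map_sum]
  refine Finset.sum_congr rfl fun k _ => ?_
  rw [map_zsmul]
  exact congr_arg _ (ev_coface 𝒰 F n V k c J)

theorem pr_aug (J : Fin 1 → ι) :
    CechOX.cechShAug 𝒰 F ≫ pr 𝒰 F 0 J =
      (Scheme.Modules.restrictAdjunction (∏ᶜ (𝒰 ∘ J)).ι).unit.app F :=
  Pi.lift_π _ _

theorem ev_aug (V : X.Opens) (J : Fin 1 → ι) (s : Γ(F, V)) :
    ev 𝒰 F 0 V J ((CechOX.cechShAug 𝒰 F).app V s) = rs F inf_le_right s := by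
  have h2 : prV 𝒰 F 0 V J ((CechOX.cechShAug 𝒰 F).app V s) =
      rs F (show (∏ᶜ (𝒰 ∘ J) : X.Opens).ι ''ᵁ ((∏ᶜ (𝒰 ∘ J) : X.Opens).ι ⁻¹ᵁ V) ≤ V by
        rw [img_eq]; exact inf_le_right) s :=
    (congrArg (fun θ => θ.app V s) (pr_aug 𝒰 F J)).trans
      (by rw [Scheme.Modules.restrictAdjunction_unit_app_app]; rfl)
  change rs F _ (prV 𝒰 F 0 V J _) = _
  rw [h2]
  exact rs_rs F _ _ _

theorem exists_mem (h : ⨆ i, 𝒰 i = ⊤) (x : X) : ∃ i, x ∈ 𝒰 i := by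
  have : x ∈ ⨆ i, 𝒰 i := h ▸ trivial
  exact Opens.mem_iSup.mp this

theorem aug_d : CechOX.cechShAug 𝒰 F ≫ (K 𝒰 F).d 0 1 = 0 := by
  refine Scheme.Modules.hom_ext _ _ fun V => ConcreteCategory.hom_ext _ _ fun s => ?_
  refine ev_ext 𝒰 F 1 V fun J => ?_
  change ev 𝒰 F 1 V J (((K 𝒰 F).d 0 1).app V ((CechOX.cechShAug 𝒰 F).app V s)) = ev 𝒰 F 1 V J 0
  rw [ev_d, Fin.sum_univ_two, map_zero, ev_aug, ev_aug]
  rw [rs_rs, rs_rs]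
  simp

theorem aug_mono (h : ⨆ i, 𝒰 i = ⊤) : Mono (CechOX.cechShAug 𝒰 F) := by
  refine GrModLib6.mono_of_app_injective _ fun V => ?_
  rw [injective_iff_map_eq_zero]
  intro s hs
  refine GrModLib6.eq_zero_of_locally s fun x hx => ?_
  obtain ⟨i, hi⟩ := exists_mem 𝒰 h x
  refine ⟨cap 𝒰 (fun _ : Fin 1 => i) ⊓ V, inf_le_right,
    ⟨(CechLib.le_cap_iff (X := X.toTopCat) 𝒰).mpr (fun _ => le_rfl) hi, hx⟩, ?_⟩
  have := ev_aug 𝒰 F V (fun _ : Fin 1 => i) s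
  rw [hs, map_zero] at this
  exact this.symm

theorem cocycle_eq (n : ℕ) (V : X.Opens) (c : Γ((K 𝒰 F).X n, V))
    (hc : ((K 𝒰 F).d n (n + 1)).app V c = 0) (J : Fin (n + 1) → ι) (i : ι) :
    rs F (inf_le_inf_right V ((CechLib.le_cap_iff (X := X.toTopCat) 𝒰).mpr fun a =>
        CechLib.cap_le (X := X.toTopCat) 𝒰 (Fin.cons i J) a.succ) :
          cap 𝒰 (Fin.cons i J : Fin (n + 2) → ι) ⊓ V ≤ cap 𝒰 J ⊓ V) (ev 𝒰 F n V J c) +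
      ∑ k : Fin (n + 1), ((-1 : ℤ) ^ ((k : ℕ) + 1)) •
        rs F (inf_le_inf_right _ (cap_comp_le 𝒰 (Fin.cons i J : Fin (n + 2) → ι) k.succ.succAbove))
          (ev 𝒰 F n V ((Fin.cons i J : Fin (n + 2) → ι) ∘ k.succ.succAbove) c) = 0 := by
  have h := ev_d 𝒰 F n V c (Fin.cons i J)
  rw [hc, map_zero, Fin.sum_univ_succ] at h
  simp only [Fin.val_succ, Fin.val_zero, pow_zero, one_smul] at h
  rw [← h.symm, ev_congr 𝒰 F V c (f := (Fin.cons i J : Fin (n + 2) → ι) ∘ Fin.succAbove 0) (g := J)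
    (funext fun a => by simp) _ ?_]

theorem locally_exact (h : ⨆ i, 𝒰 i = ⊤) (n : ℕ) (V : X.Opens) (c : Γ((K 𝒰 F).X (n + 1), V))
    (hc : ((K 𝒰 F).d (n + 1) (n + 2)).app V c = 0) (x : X) (hx : x ∈ V) :
    ∃ (W : X.Opens) (hle : W ≤ V), x ∈ W ∧ ∃ b, ((K 𝒰 F).d n (n + 1)).app W b =
      ((K 𝒰 F).X (n + 1)).presheaf.map (homOfLE hle).op c := by
  obtain ⟨i, hi⟩ := exists_mem 𝒰 h x
  refine ⟨V ⊓ 𝒰 i, inf_le_left, ⟨hx, hi⟩, ?_⟩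
  have hcons : ∀ J : Fin (n + 1) → ι,
      cap 𝒰 J ⊓ (V ⊓ 𝒰 i) ≤ cap 𝒰 (Fin.cons i J : Fin (n + 2) → ι) ⊓ V := by
    intro J
    refine le_inf ((CechLib.le_cap_iff (X := X.toTopCat) 𝒰).mpr (Fin.cases ?_ fun a => ?_))
      (inf_le_right.trans inf_le_left)
    · exact inf_le_right.trans inf_le_right
    · rw [Fin.cons_succ]
      exact inf_le_left.trans (CechLib.cap_le (X := X.toTopCat) 𝒰 J a)
  obtain ⟨b, hb⟩ := exists_ev 𝒰 F n (V ⊓ 𝒰 i) fun J =>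
    rs F (hcons J) (ev 𝒰 F (n + 1) V (Fin.cons i J : Fin (n + 2) → ι) c)
  refine ⟨b, ev_ext 𝒰 F _ _ fun J => ?_⟩
  rw [ev_d, ev_map]
  have hJ : cap 𝒰 J ⊓ (V ⊓ 𝒰 i) ≤ cap 𝒰 (Fin.cons i J : Fin (n + 3) → ι) ⊓ V := by
    refine le_inf ((CechLib.le_cap_iff (X := X.toTopCat) 𝒰).mpr (Fin.cases ?_ fun a => ?_))
      (inf_le_right.trans inf_le_left)
    · exact inf_le_right.trans inf_le_right
    · rw [Fin.cons_succ]
      exact inf_le_left.trans (CechLib.cap_le (X := X.toTopCat) 𝒰 J a)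
  have key := congrArg (rs F hJ) (cocycle_eq 𝒰 F (n + 1) V c hc J i)
  rw [map_add, map_sum, map_zero, rs_rs, add_eq_zero_iff_eq_neg] at key
  refine Eq.trans ?_ key.symm
  rw [← Finset.sum_neg_distrib]
  refine Finset.sum_congr rfl fun k _ => ?_
  rw [map_zsmul, ← neg_smul, pow_succ, mul_neg_one, neg_neg, hb, rs_rs, rs_rs]
  congr 1
  refine ev_congr 𝒰 F V c ?_ _ _
  funext a
  refine Fin.cases ?_ (fun b => ?_) a
  · simp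
  · simp [Fin.succ_succAbove_succ]

theorem isZero_homology (h : ⨆ i, 𝒰 i = ⊤) (p : ℕ) : IsZero ((K 𝒰 F).homology (p + 1)) := by
  rw [← HomologicalComplex.exactAt_iff_isZero_homology,
    HomologicalComplex.exactAt_iff' _ p (p + 1) (p + 2) (by simp) (by simp)]
  exact GrModLib6.exact_of_locally_lift _ _ _ fun V c hc x hx => locally_exact 𝒰 F h p V c hc x hx

theorem exists_lift (h : ⨆ i, 𝒰 i = ⊤) (V : X.Opens) (c : Γ((K 𝒰 F).X 0, V))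
    (hc : ((K 𝒰 F).d 0 1).app V c = 0) (x : X) (hx : x ∈ V) :
    ∃ (W : X.Opens) (hle : W ≤ V), x ∈ W ∧ ∃ s, (CechOX.cechShAug 𝒰 F).app W s =
      ((K 𝒰 F).X 0).presheaf.map (homOfLE hle).op c := by
  obtain ⟨i, hi⟩ := exists_mem 𝒰 h x
  refine ⟨V ⊓ 𝒰 i, inf_le_left, ⟨hx, hi⟩, ?_⟩
  have hle : V ⊓ 𝒰 i ≤ cap 𝒰 (fun _ : Fin 1 => i) ⊓ V :=
    le_inf ((CechLib.le_cap_iff (X := X.toTopCat) 𝒰).mpr fun _ => inf_le_right) inf_le_left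
  refine ⟨rs F hle (ev 𝒰 F 0 V (fun _ : Fin 1 => i) c), ev_ext 𝒰 F _ _ fun J => ?_⟩
  rw [ev_aug, ev_map, rs_rs]
  have hJ : cap 𝒰 J ⊓ (V ⊓ 𝒰 i) ≤ cap 𝒰 (Fin.cons i J : Fin 2 → ι) ⊓ V := by
    refine le_inf ((CechLib.le_cap_iff (X := X.toTopCat) 𝒰).mpr (Fin.cases ?_ fun a => ?_))
      (inf_le_right.trans inf_le_left)
    · exact inf_le_right.trans inf_le_right
    · rw [Fin.cons_succ]
      exact inf_le_left.trans (CechLib.cap_le (X := X.toTopCat) 𝒰 J a)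
  have key := congrArg (rs F hJ) (cocycle_eq 𝒰 F 0 V c hc J i)
  rw [map_add, map_sum, map_zero, rs_rs, add_eq_zero_iff_eq_neg] at key
  refine Eq.trans ?_ key.symm
  rw [Fin.sum_univ_one, map_zsmul, rs_rs]
  simp only [Fin.val_zero, zero_add, pow_one, neg_smul, one_smul, neg_neg]
  refine ev_congr 𝒰 F V c ?_ _ _
  funext a
  fin_cases a
  simp

end CechShLib
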