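import Groth.Agent.CechShLib.Main
import Groth.Agent.QRlimLib.AcyclicPush
import Groth.Agent.RpushLib.Comp
import Groth.Agent.QCohLib.Acyclic
import Groth.Agent.SpSeqLib.MapExt
import Mathlib.Algebra.Homology.Embedding.ExtendHomology

/-!
# The relative Čech complex computes `Rf_*`
-/

set_option autoImplicit false
set_option linter.style.haveILetI false
universe u
open CategoryTheory CategoryTheory.Limits AlgebraicGeometry TopologicalSpace Opposite

attribute [local instance] HasDerivedCategory.standard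

noncomputable section

namespace CechShLib

theorem isAffineHom_of_affine {W S : Scheme.{u}} [IsAffine W]
    [IsAffineHom (pullback.diagonal (terminal.from S))] (f : W ⟶ S) : IsAffineHom f := by
  haveI : MorphismProperty.HasOfPostcompProperty (@IsAffineHom) (MorphismProperty.diagonal @IsAffineHom) :=
    (MorphismProperty.hasOfPostcompProperty_iff_le_diagonal ..).mpr le_rfl
  exact MorphismProperty.of_postcomp (W' := MorphismProperty.diagonal @IsAffineHom) @IsAffineHom f (terminal.from S)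
    (by change IsAffineHom _; infer_instance) (by rw [terminal.comp_from]; infer_instance)

theorem isZero_rpush_term' {X S : Scheme.{u}} {ι : Type u} [Finite ι] (𝒰 : ι → X.Opens) (F : X.Modules)
    (f : X ⟶ S) [HasInjectiveResolutions X.Modules]
    (hac : ∀ (p : ℕ) (J : Fin (p + 1) → ι) (n : ℕ), 0 < n →
      IsZero ((Coh.Rpush f n).obj (fac 𝒰 F p J))) (p n : ℕ) (hn : 0 < n) :
    IsZero ((Coh.Rpush f n).obj ((K 𝒰 F).X p)) := by
  haveI := Fintype.ofFinite ι
  haveI : HasFiniteBiproducts X.Modules := Abelian.hasFiniteBiproducts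
  haveI : (Coh.Rpush f n).Additive := by unfold Coh.Rpush; infer_instance
  haveI : PreservesFiniteProducts (Coh.Rpush f n) := inferInstance
  refine IsZero.of_iso ?_ (PreservesProduct.iso (Coh.Rpush f n) (fac 𝒰 F p))
  rw [IsZero.iff_id_eq_zero]
  exact Pi.hom_ext _ _ fun J => (hac p J n hn).eq_of_tgt _ _

/-- vanishing for pieces that are affine over both `X` and `S` -/
theorem isZero_rpush_pushRestr' {X S : Scheme.{u}} (F : X.Modules) [Coh.IsQCoh F] (f : X ⟶ S)
    [HasInjectiveResolutions X.Modules] (W : X.Opens) (_ : IsAffineHom W.ι) (_ : IsAffineHom (W.ι ≫ f))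
    (n : ℕ) (hn : 0 < n) : IsZero ((Coh.Rpush f n).obj ((CechOX.pushRestr W).obj F)) := by
  haveI := KFlatLib.isQCoh_pullback W.ι F
  haveI : Coh.IsQCoh ((Scheme.Modules.restrictFunctor W.ι).obj F) :=
    QCohLib.isQCoh_of_iso ((Scheme.Modules.restrictFunctorIsoPullback W.ι).app F).symm
  obtain ⟨e⟩ := RpushLib.nonempty_rpush_push_iso W.ι f ((Scheme.Modules.restrictFunctor W.ι).obj F) n
  refine IsZero.of_iso ?_ e
  obtain ⟨e'⟩ := RpushLib.nonempty_toAb_rpush_iso (W.ι ≫ f) ((Scheme.Modules.restrictFunctor W.ι).obj F) n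
  exact RpushLib.isZero_of_isZero_toAb ((QCohLib.isZero_RpushAb _ _ n hn).of_iso e')

/-- the Čech complex computes `Rf_*` when every piece is acyclic -/
theorem nonempty_relCech_iso_of_acyclic {X S : Scheme.{u}} {ι : Type u} [Finite ι] (𝒰 : ι → X.Opens)
    (F : X.Modules) (f : X ⟶ S) [HasInjectiveResolutions X.Modules] [DCoh.HasRpush f]
    (hcov : ⨆ i, 𝒰 i = ⊤)
    (hac : ∀ (p : ℕ) (J : Fin (p + 1) → ι) (n : ℕ), 0 < n →
      IsZero ((Coh.Rpush f n).obj (fac 𝒰 F p J))) :
    Nonempty (DCoh.toD S (CechOX.relCechZ 𝒰 f F) ≅ (DCoh.Rpush f).obj (DCoh.inD X F)) := by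
  haveI : EnoughInjectives X.Modules := IsGrothendieckAbelian.enoughInjectives.{u}
  haveI : PreservesLimitsOfSize.{0, 0} (Scheme.Modules.pushforward f) :=
    (Scheme.Modules.pullbackPushforwardAdjunction f).rightAdjoint_preservesLimits
  haveI := aug_mono 𝒰 F hcov
  let φ : (CochainComplex.single₀ X.Modules).obj F ⟶ K 𝒰 F :=
    (CochainComplex.fromSingle₀Equiv (K 𝒰 F) F).symm ⟨CechOX.cechShAug 𝒰 F, aug_d 𝒰 F⟩
  haveI : QuasiIso φ := ⟨fun n => by
    cases n with
    | zero =>
      rw [CochainComplex.quasiIsoAt₀_iff, ShortComplex.quasiIso_iff_of_zeros]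
      rotate_left
      · rfl
      · rfl
      · rfl
      refine ⟨?_, ?_⟩
      · refine GrModLib6.exact_of_locally_lift _ _ _ fun V c hc x hx => ?_
        obtain ⟨W, hW, hxW, s, hs⟩ := exists_lift 𝒰 F hcov V c hc x hx
        refine ⟨W, hW, hxW, s, ?_⟩
        have hf : φ.f 0 = CechOX.cechShAug 𝒰 F := by simp [φ]
        change (φ.f 0).app W s = _
        rw [hf]
        exact hs
      · change Mono (φ.f 0)
        simpa [φ] using aug_mono 𝒰 F hcov
    | succ n =>
      rw [quasiIsoAt_iff_exactAt]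
      · exact (HomologicalComplex.exactAt_iff_isZero_homology _ _).mpr (isZero_homology 𝒰 F hcov n)
      · exact CochainComplex.exactAt_succ_single_obj F n⟩
  let L := CechOX.cechShZ 𝒰 F
  haveI : L.IsStrictlyGE 0 := by dsimp only [L]; infer_instance
  let φ' : (CochainComplex.singleFunctor X.Modules 0).obj F ⟶ L :=
    (HomologicalComplex.extendSingleIso _ _ _ _ (by simp)).inv ≫
      (ComplexShape.embeddingUpNat.extendFunctor X.Modules).map φ
  haveI : QuasiIso φ' := by
    change QuasiIso ((HomologicalComplex.extendSingleIso _ _ _ _ (by simp)).inv ≫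
      HomologicalComplex.extendMap φ ComplexShape.embeddingUpNat)
    infer_instance
  have hu := QRlimLib.isIso_rpushUnit_of_bddBelow f L 0 (fun n i hi => by
    by_cases hn : 0 ≤ n
    · obtain ⟨k, rfl⟩ := Int.eq_ofNat_of_zero_le hn
      exact (isZero_rpush_term' 𝒰 F f hac k i hi).of_iso
        ((Coh.Rpush f i).mapIso ((K 𝒰 F).extendXIso ComplexShape.embeddingUpNat (i := k) rfl))
    · haveI : (Coh.Rpush f i).Additive := by unfold Coh.Rpush; infer_instance
      exact (Coh.Rpush f i).map_isZero (CochainComplex.isZero_of_isStrictlyGE L 0 n (by lia)))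
  exact ⟨DerivedCategory.Q.mapIso (SpSeqLib.mapExtendNatIso (Scheme.Modules.pushforward f) (K 𝒰 F)).symm ≪≫
    ((DerivedCategory.quotientCompQhIso S.Modules).app _).symm ≪≫
    @asIso _ _ _ _ _ hu ≪≫
    (DCoh.Rpush f).mapIso ((DerivedCategory.quotientCompQhIso X.Modules).app L ≪≫
      (asIso (DerivedCategory.Q.map φ')).symm ≪≫
      ((DerivedCategory.singleFunctorIsoCompQ X.Modules 0).app F).symm)⟩


variable {X S : Scheme.{u}} [IsAffineHom (pullback.diagonal (terminal.from X))]
  {ι : Type u} (𝒰 : ι → X.Opens)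

theorem affine_pi (h𝒰 : ∀ i, IsAffineOpen (𝒰 i)) {n : ℕ} (J : Fin (n + 1) → ι) :
    IsAffineOpen (∏ᶜ (𝒰 ∘ J) : X.Opens) := by
  rw [piObj]
  exact IsAffineOpen.iInf fun a => h𝒰 (J a)

variable (F : X.Modules) [Coh.IsQCoh F]

theorem isQCoh_pushRestr (W : X.Opens) (hW : IsAffineOpen W) :
    Coh.IsQCoh ((CechOX.pushRestr W).obj F) := by
  haveI := QCohLib.isAffineHom_ι W hW fun V W hV hW => hV.inf hW
  haveI := KFlatLib.isQCoh_pullback W.ι F
  haveI : Coh.IsQCoh ((Scheme.Modules.restrictFunctor W.ι).obj F) :=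
    QCohLib.isQCoh_of_iso ((Scheme.Modules.restrictFunctorIsoPullback W.ι).app F).symm
  exact QCohLib.isQCoh_pushforward W.ι _

variable (f : X ⟶ S) [IsAffineHom (pullback.diagonal (terminal.from S))]

theorem isQCoh_push_pushRestr (W : X.Opens) (hW : IsAffineOpen W) :
    Coh.IsQCoh ((Scheme.Modules.pushforward f).obj ((CechOX.pushRestr W).obj F)) := by
  haveI := KFlatLib.isQCoh_pullback W.ι F
  haveI : Coh.IsQCoh ((Scheme.Modules.restrictFunctor W.ι).obj F) :=
    QCohLib.isQCoh_of_iso ((Scheme.Modules.restrictFunctorIsoPullback W.ι).app F).symm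
  haveI : IsAffine W := hW
  haveI := isAffineHom_of_affine (W.ι ≫ f)
  have := QCohLib.isQCoh_pushforward (W.ι ≫ f) ((Scheme.Modules.restrictFunctor W.ι).obj F)
  exact QCohLib.isQCoh_of_iso ((Scheme.Modules.pushforwardComp W.ι f).app _).symm

theorem isZero_rpush_pushRestr [HasInjectiveResolutions X.Modules] (W : X.Opens) (hW : IsAffineOpen W)
    (n : ℕ) (hn : 0 < n) : IsZero ((Coh.Rpush f n).obj ((CechOX.pushRestr W).obj F)) := by
  haveI := QCohLib.isAffineHom_ι W hW fun V W hV hW => hV.inf hW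
  haveI : IsAffine W := hW
  haveI := isAffineHom_of_affine (W.ι ≫ f)
  exact isZero_rpush_pushRestr' F f W inferInstance inferInstance n hn

variable [Finite ι] (h𝒰 : ∀ i, IsAffineOpen (𝒰 i))

include h𝒰 in
omit [IsAffineHom (pullback.diagonal (terminal.from X))] in
theorem isQCoh_relCech_aux [IsAffineHom (pullback.diagonal (terminal.from X))] (p : ℕ) :
    Coh.IsQCoh (((CechOX.relCech 𝒰 f).obj F).X p) := by
  haveI := Fintype.ofFinite ι
  haveI : HasFiniteBiproducts X.Modules := Abelian.hasFiniteBiproducts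
  haveI : HasFiniteBiproducts S.Modules := Abelian.hasFiniteBiproducts
  let P : (Fin (p + 1) → ι) → S.Modules := fun J => (Scheme.Modules.pushforward f).obj (fac 𝒰 F p J)
  haveI : Coh.IsQCoh (∐ P) :=
    QCohLib.isQCoh_sigma P fun J => isQCoh_push_pushRestr F f _ (affine_pi 𝒰 h𝒰 J)
  haveI : PreservesLimitsOfSize.{u, u} (Scheme.Modules.pushforward f) :=
    (Scheme.Modules.pullbackPushforwardAdjunction f).rightAdjoint_preservesLimits
  change Coh.IsQCoh ((Scheme.Modules.pushforward f).obj (∏ᶜ fac 𝒰 F p))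
  exact QCohLib.isQCoh_of_iso ((biproduct.isoCoproduct P).symm ≪≫ biproduct.isoProduct P ≪≫
    (PreservesProduct.iso (Scheme.Modules.pushforward f) (fac 𝒰 F p)).symm)

include h𝒰 in
theorem isZero_rpush_term [HasInjectiveResolutions X.Modules] (p n : ℕ) (hn : 0 < n) :
    IsZero ((Coh.Rpush f n).obj ((K 𝒰 F).X p)) :=
  isZero_rpush_term' 𝒰 F f (fun q J m hm => isZero_rpush_pushRestr F f _ (affine_pi 𝒰 h𝒰 J) m hm) p n hn

include h𝒰 in
theorem nonempty_relCech_iso [DCoh.HasRpush f] (hcov : ⨆ i, 𝒰 i = ⊤) :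
    Nonempty (DCoh.toD S (CechOX.relCechZ 𝒰 f F) ≅ (DCoh.Rpush f).obj (DCoh.inD X F)) := by
  haveI : EnoughInjectives X.Modules := IsGrothendieckAbelian.enoughInjectives.{u}
  exact nonempty_relCech_iso_of_acyclic 𝒰 F f hcov fun p J n hn =>
    isZero_rpush_pushRestr F f _ (affine_pi 𝒰 h𝒰 J) n hn

end CechShLib
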